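import Groth.Agent.Lib.AssFlat15.NoEmb
import Groth.Agent.Lib.Cyc26.Stalk
import Groth.Agent.Lib.TensorMod.QCohTensor
import Groth.Agent.S4671
import Groth.Agent.S2545
import Groth.Agent.Lib.ModM1.Local
import Groth.Agent.Lib.RelPCS8.FlatTerms

/-!
# Embedded associated points and field extensions
-/

set_option autoImplicit false
set_option linter.style.haveILetI false
set_option backward.isDefEq.respectTransparency false

universe u

open CategoryTheory Limits AlgebraicGeometry TopologicalSpace

namespace Groth.Agent.AssField12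

/-- The stalk of the structure module. -/
noncomputable def stEquiv {Z : Scheme.{u}} (z : Z) :
    Z.presheaf.stalk z ≃ₗ[Z.presheaf.stalk z] (Coh.structureModule Z).presheaf.stalk z :=
  LinearEquiv.ofBijective (LinearMap.toSpanSingleton _ _ _) (Cyc26.structureModule_stalk_bijective z)

theorem mem_ass_structureModule_iff {Z : Scheme.{u}} (z : Z) :
    z ∈ AssSch.Ass (Coh.structureModule Z) ↔
      IsAssociatedPrime (IsLocalRing.maximalIdeal (Z.presheaf.stalk z)) (Z.presheaf.stalk z) := by
  show _ ∈ associatedPrimes _ _ ↔ _ ∈ associatedPrimes _ _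
  rw [LinearEquiv.AssociatedPrimes.eq (stEquiv z)]

theorem isField_stalk_spec {k : Type u} [Field k] (z : Spec (CommRingCat.of k)) :
    IsField ((Spec (CommRingCat.of k)).presheaf.stalk z) := by
  haveI : Subsingleton (Spec (CommRingCat.of k)) := inferInstanceAs (Subsingleton (PrimeSpectrum k))
  rw [Subsingleton.elim z (genericPoint (Spec (CommRingCat.of k)))]
  exact Field.toIsField (Spec (CommRingCat.of k)).functionField

theorem isFlatOver_spec_field {k : Type u} [Field k] {Y : Scheme.{u}} (g : Y ⟶ Spec (CommRingCat.of k))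
    (G : Y.Modules) : FlatMod.IsFlatOver g G := by
  intro y
  letI := (isField_stalk_spec (g y)).toField
  letI := FlatMod.moduleStalkOver g G y
  show Module.Flat ((Spec (CommRingCat.of k)).presheaf.stalk (g y)) (G.presheaf.stalk y)
  infer_instance

theorem mem_ass_of_isField {Z : Scheme.{u}} {z : Z} (h : IsField (Z.presheaf.stalk z)) :
    z ∈ AssSch.Ass (Coh.structureModule Z) := by
  haveI : IsDomain (Z.presheaf.stalk z) := h.isDomain
  rw [mem_ass_structureModule_iff, (IsLocalRing.isField_iff_maximalIdeal_eq.1 h)]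
  refine ⟨Ideal.isPrime_bot, 1, ?_⟩
  refine (eq_bot_iff.2 fun r hr => ?_).symm
  obtain ⟨n, hn⟩ := hr
  rw [Submodule.mem_colon_singleton, Submodule.mem_bot, smul_eq_mul, mul_one] at hn
  exact Ideal.mem_bot.2 (eq_zero_of_pow_eq_zero hn)

theorem noEmbedded_of_isIntegral {X : Scheme.{u}} [IsIntegral X] : AssSch.NoEmbedded (Coh.structureModule X) := by
  intro x hx y _ hyx
  have hf : IsField (X.presheaf.stalk x) := by
    rw [mem_ass_structureModule_iff] at hx
    obtain ⟨hp, a, ha⟩ := hx
    rw [IsLocalRing.isField_iff_maximalIdeal_eq, ha]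
    have ha0 : a ≠ 0 := fun h0 => hp.ne_top (by rw [ha, h0]; simp)
    refine (eq_bot_iff.2 fun r hr => ?_)
    obtain ⟨n, hn⟩ := hr
    rw [Submodule.mem_colon_singleton, Submodule.mem_bot, smul_eq_mul] at hn
    exact Ideal.mem_bot.2 (eq_zero_of_pow_eq_zero ((mul_eq_zero.1 hn).resolve_right ha0))
  have h1 : y ∈ Set.range (X.fromSpecStalk x) := by rw [Scheme.range_fromSpecStalk]; exact hyx
  obtain ⟨p, rfl⟩ := h1
  letI := hf.toField
  haveI : Subsingleton (Spec (X.presheaf.stalk x)) := inferInstanceAs (Subsingleton (PrimeSpectrum (X.presheaf.stalk x)))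
  rw [Subsingleton.elim p (IsLocalRing.closedPoint (X.presheaf.stalk x)), Scheme.fromSpecStalk_closedPoint]

theorem noEmbedded_congr {X : Scheme.{u}} {F F' : X.Modules} (e : F ≅ F') :
    AssSch.NoEmbedded F ↔ AssSch.NoEmbedded F' := by
  simp only [AssSch.NoEmbedded, AssFlat15.mem_ass_congr e]

theorem noEmbedded_pullback {k : Type u} [Field k] {X Y : Scheme.{u}} (f : X ⟶ Spec (CommRingCat.of k))
    (g : Y ⟶ Spec (CommRingCat.of k)) [IsLocallyNoetherian X] [IsLocallyNoetherian Y]
    [IsLocallyNoetherian (pullback f g)] (hX : AssSch.NoEmbedded (Coh.structureModule X))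
    (hY : AssSch.NoEmbedded (Coh.structureModule Y)) :
    AssSch.NoEmbedded (Coh.structureModule (pullback f g)) := by
  haveI : IsNoetherianRing (CommRingCat.of k : Type u) := inferInstanceAs (IsNoetherianRing k)
  have hq : ∀ Z : Scheme.{u}, Coh.IsQCoh (Coh.structureModule Z) := M1.isQCoh_structureModule
  exact (noEmbedded_congr (M2.tensorIso (Twist.pullbackUnitIso _) (Twist.pullbackUnitIso _) ≪≫ M2.tensorLUnit _)).1
    (Groth.Agent.S4671.result f g _ (hq X) _ (hq Y) (isFlatOver_spec_field g _)
      (fun x _ => mem_ass_of_isField (isField_stalk_spec (f x))) hX hY)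

theorem noEmbedded_of_pullback {k K : Type u} [Field k] [Field K] [Algebra k K] {X : Scheme.{u}}
    (f : X ⟶ Spec (CommRingCat.of k)) [IsLocallyNoetherian X]
    [IsLocallyNoetherian (pullback f (Spec.map (CommRingCat.ofHom (algebraMap k K))))]
    (h : AssSch.NoEmbedded (Coh.structureModule ↑(pullback f (Spec.map (CommRingCat.ofHom (algebraMap k K)))))) :
    AssSch.NoEmbedded (Coh.structureModule X) := by
  let j := Spec.map (CommRingCat.ofHom (algebraMap k K))
  haveI : Flat j := (HasRingHomProperty.Spec_iff (P := @Flat)).2 ((RingHom.flat_algebraMap_iff).2 inferInstance)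
  haveI : Surjective j := ⟨fun z => ⟨IsLocalRing.closedPoint K,
    @Subsingleton.elim _ (inferInstanceAs (Subsingleton (PrimeSpectrum k))) _ _⟩⟩
  have h' := (noEmbedded_congr ((M2.tensorIso (Twist.pullbackUnitIso (pullback.fst f j)) (Iso.refl _)) ≪≫
    M2.tensorLUnit _)).2 h
  have key := (Groth.Agent.S2545.result (pullback.fst f j) (Coh.structureModule X) (M1.isCoh_structureModule X)
    (Coh.structureModule _) (M1.isCoh_structureModule _)
    (RelPCS8.flat_iff_isFlatOver_structureModule.1 inferInstance)).1 h'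
  intro x hx y hy hyx
  obtain ⟨z, hz⟩ := (pullback.fst f j).surjective x
  refine ((key x ⟨hx, z, ?_, hz⟩).1 y hy hyx).symm
  exact fun hs => not_subsingleton (((pullback f j).presheaf.stalk z)) ((stEquiv z).toEquiv.subsingleton_congr.2 hs)

theorem tensor_fields_associatedPrimes {k K L : Type u} [Field k] [Field K] [Field L] [Algebra k K] [Algebra k L] :
    associatedPrimes (TensorProduct k K L) (TensorProduct k K L) ⊆ minimalPrimes (TensorProduct k K L) := by
  intro p hp
  obtain ⟨hpp, a, ha⟩ := hp
  refine ⟨⟨hpp, bot_le⟩, fun q hq hqp => ?_⟩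
  haveI := hq.1
  refine (AssFlat15.tensor_fields_incomparable k K L p q (fun r hr hr0 => ?_) hqp).ge
  rw [ha] at hr
  obtain ⟨n, hn⟩ := hr
  rw [Submodule.mem_colon_singleton, Submodule.mem_bot, smul_eq_mul, mul_comm] at hn
  have : a = 0 := mem_nonZeroDivisors_iff_right.1 (pow_mem hr0 n) a hn
  exact hpp.ne_top (by rw [ha, this]; simp)

end Groth.Agent.AssField12
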